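import Mathlib
import Groth.Prelude.Def_EGA4b
import Groth.Agent.Lib.Helper7.ConsMod.Model
import Groth.Agent.Lib.Helper4.LimFlatF
import Groth.Agent.Lib.Helper4.LimTRegD
import Groth.Agent.Lib.Lead.CritFib15
import Groth.Agent.Lib.Lead.LimZ4

set_option linter.style.haveILetI false
set_option linter.unusedVariables false
set_option linter.unusedSectionVars false
set_option autoImplicit false
set_option backward.isDefEq.respectTransparency.types false
set_option backward.isDefEq.respectTransparency false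
set_option synthInstance.maxHeartbeats 400000
set_option maxHeartbeats 1600000

universe u

/-! helper7: Noetherian descent of flatness of a finitely presented module (EGA IV 11.2.7): models over finitely generated subrings, via helper4 LimFlatF/LimTRegD stage theorems. -/

open CategoryTheory CategoryTheory.Limits AlgebraicGeometry Opposite

namespace Groth.Agent.Helper7.FlatNoeth

open Groth.Agent.Helper7.LimBC Groth.Agent.Helper7.LimDesc Groth.Agent.Helper7

variable (A : Type u) [CommRing A] {X : Scheme.{u}}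
  (f : X ⟶ Spec (CommRingCat.of A)) [LocallyOfFinitePresentation f] [QuasiCompact f]
  [QuasiSeparated f] (F : X.Modules) [F.IsQuasicoherent] (hF : CohB1.IsFP F)

include hF in
/-- a scheme of finite presentation over an affine scheme with a finitely presented module comes
by base change from a model over a finitely generated subring (index exposed). -/
theorem exists_fg_model_mod :
    ∃ (j : (FGSub.Idx A)ᵒᵖ) (X₀ : Scheme.{u}) (u₀ : X₀ ⟶ (FGSub.specDiag A).obj j) (q : X ⟶ X₀)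
      (F₀ : X₀.Modules), LocallyOfFinitePresentation u₀ ∧ QuasiCompact u₀ ∧ QuasiSeparated u₀ ∧
      IsPullback q f u₀ ((FGSub.specCone A).π.app j) ∧ F₀.IsQuasicoherent ∧ CohB1.IsFP F₀ ∧
      Nonempty ((Scheme.Modules.pullback q).obj F₀ ≅ F) := by
  obtain ⟨j₁, ⟨M₁⟩⟩ := desc_of_finitePresentation (FGSub.isLimit_specCone A).some f
  haveI : CompactSpace ↥M₁.Zj := QuasiCompact.compactSpace_of_compactSpace M₁.zj
  haveI : QuasiSeparatedSpace ↥M₁.Zj := quasiSeparatedSpace_of_quasiSeparated M₁.zj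
  obtain ⟨k, -, Fk, hFkq, hFkfp, ⟨e⟩⟩ := Groth.Agent.Helper7.ModDesc.exists_descend
    (bcDiagram (FGSub.specDiag A) j₁ M₁.zj) (bcCone M₁.isPullback)
    (isLimitBcCone (FGSub.isLimit_specCone A).some M₁.isPullback) (Over.mk (𝟙 j₁)) F hF
  exact ⟨k.left, pullback M₁.zj ((FGSub.specDiag A).map k.hom),
    pullback.snd M₁.zj ((FGSub.specDiag A).map k.hom), (bcCone M₁.isPullback).π.app k, Fk,
    inferInstance, inferInstance, inferInstance, isPullback_bcCone_π M₁.isPullback k, hFkq, hFkfp,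
    ⟨e⟩⟩

include hF in
/-- **flatness at a point descends to a model over a finitely generated subring**
(EGA IV 11.2.7). -/
theorem exists_model_flatAt (x : X) (hfl : FlatMod.IsFlatOverAt f F x) :
    ∃ (j : (FGSub.Idx A)ᵒᵖ) (X₀ : Scheme.{u}) (f₀ : X₀ ⟶ (FGSub.specDiag A).obj j)
      (F₀ : X₀.Modules) (q : X ⟶ X₀), LocallyOfFiniteType f₀ ∧ QuasiCompact f₀ ∧ Coh.IsCoh F₀ ∧
      IsPullback q f f₀ ((FGSub.specCone A).π.app j) ∧
      Nonempty ((Scheme.Modules.pullback q).obj F₀ ≅ F) ∧ FlatMod.IsFlatOverAt f₀ F₀ (q x) := by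
  obtain ⟨j, X₀, u₀, q, F₀, hlfp, hqc, hqs, hpb, hF₀q, hF₀fp, ⟨e⟩⟩ := exists_fg_model_mod A f F hF
  haveI := hlfp
  haveI := hqc
  haveI := hqs
  haveI := hF₀q
  have hc := (FGSub.isLimit_specCone A).some
  have hY : IsPullback ((FGSub.specCone A).π.app j) (𝟙 (FGSub.specCone A).pt)
      (𝟙 ((FGSub.specDiag A).obj j)) ((FGSub.specCone A).π.app j) :=
    IsPullback.id_vert ((FGSub.specCone A).π.app j)
  have hfl' : FlatMod.IsFlatOverAt f ((Scheme.Modules.pullback q).obj F₀) x :=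
    Groth.Agent.Lib.Helper4.ChartSq1.isFlatOverAt_of_iso f e.symm x hfl
  obtain ⟨i, φ, Xi, Yi, fi, gi, pY, pX, vY, vX, hYi, hXi, h1, h2, h3, h4, hfli⟩ :=
    Groth.Agent.Lib.Helper4.LimFlatF.exists_stage_flatAt (FGSub.specDiag A) (FGSub.specCone A) hc j
      u₀ (𝟙 _) F₀ f (𝟙 _) ((FGSub.specCone A).π.app j) q hY hpb hF₀fp x hfl'
  haveI : IsIso gi := hYi.isIso_snd_of_isIso
  have hs1 : IsPullback (vX ≫ pX) f u₀ (vY ≫ pY) := by
    rw [h3, h1]
    exact hpb
  have L1 : IsPullback vX f fi vY := IsPullback.of_right hs1 h4 hXi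
  have hs2 : IsPullback (vY ≫ pY) (𝟙 (FGSub.specCone A).pt) (𝟙 ((FGSub.specDiag A).obj j))
      ((FGSub.specCone A).π.app i ≫ (FGSub.specDiag A).map φ) := by
    rw [h1, (FGSub.specCone A).w φ]
    exact hY
  have L2 : IsPullback vY (𝟙 (FGSub.specCone A).pt) gi ((FGSub.specCone A).π.app i) :=
    IsPullback.of_right hs2 h2 hYi
  have L : IsPullback vX f (fi ≫ gi) ((FGSub.specCone A).π.app i) :=
    (congrArg (fun t => IsPullback vX t (fi ≫ gi) ((FGSub.specCone A).π.app i))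
      (Category.comp_id f)).mp (L1.paste_vert L2)
  haveI : LocallyOfFinitePresentation fi :=
    MorphismProperty.of_isPullback (P := @LocallyOfFinitePresentation) hXi inferInstance
  haveI : QuasiCompact fi :=
    MorphismProperty.of_isPullback (P := @QuasiCompact) hXi inferInstance
  haveI : IsIso (gi.stalkMap (fi (vX x))) := inferInstance
  have hgfl : (gi.stalkMap (fi (vX x))).hom.Flat :=
    RingHom.Flat.of_bijective (ConcreteCategory.bijective_of_isIso (gi.stalkMap (fi (vX x))))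
  refine ⟨i, Xi, fi ≫ gi, (Scheme.Modules.pullback pX).obj F₀, vX, inferInstance, inferInstance,
    ConsMod.isCoh_of_isFP _ (Groth.Agent.Lead.LimZ.isFP_pullback pX F₀ hF₀fp), L,
    ⟨(ConsMod.pullbackFacIso h3 F₀).symm ≪≫ e⟩, ?_⟩
  exact Groth.Agent.Lead.CritFib.isFlatOverAt_comp fi gi _ (vX x) hgfl hfli

include hF in
/-- **flatness descends to a model over a finitely generated subring** (EGA IV 11.2.7). -/
theorem exists_model_flat (hfl : FlatMod.IsFlatOver f F) :
    ∃ (j : (FGSub.Idx A)ᵒᵖ) (X₀ : Scheme.{u}) (f₀ : X₀ ⟶ (FGSub.specDiag A).obj j)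
      (F₀ : X₀.Modules) (q : X ⟶ X₀), LocallyOfFiniteType f₀ ∧ QuasiCompact f₀ ∧ Coh.IsCoh F₀ ∧
      IsPullback q f f₀ ((FGSub.specCone A).π.app j) ∧
      Nonempty ((Scheme.Modules.pullback q).obj F₀ ≅ F) ∧ FlatMod.IsFlatOver f₀ F₀ := by
  obtain ⟨j, X₀, u₀, q, F₀, hlfp, hqc, hqs, hpb, hF₀q, hF₀fp, ⟨e⟩⟩ := exists_fg_model_mod A f F hF
  haveI := hlfp
  haveI := hqc
  haveI := hqs
  haveI := hF₀q
  have hc := (FGSub.isLimit_specCone A).some
  haveI : ∀ {a b : Over j} (φ : a ⟶ b),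
      IsAffineHom ((Over.forget j ⋙ FGSub.specDiag A).map φ) := fun φ => by
    show IsAffineHom ((FGSub.specDiag A).map φ.left)
    infer_instance
  haveI : ∀ k : Over j, IsAffineHom ((FGSub.specDiag A).map k.hom) := fun k => inferInstance
  haveI : CompactSpace ↥X₀ := QuasiCompact.compactSpace_of_compactSpace u₀
  have hcE : IsLimit ((FGSub.specCone A).whisker (Over.forget j)) :=
    (Functor.Initial.isLimitWhiskerEquiv (Over.forget j) (FGSub.specCone A)).symm hc
  have H : ∀ x : X, FlatMod.IsFlatOverAt f ((Scheme.Modules.pullback q).obj F₀) x := fun x =>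
    Groth.Agent.Lib.Helper4.ChartSq1.isFlatOverAt_of_iso f e.symm x (hfl x)
  obtain ⟨k₂, hk₂⟩ := Groth.Agent.Lib.Helper4.LimTRegD.exists_stage_flat
    (Over.forget j ⋙ FGSub.specDiag A) ((FGSub.specCone A).whisker (Over.forget j)) hcE
    (fun k => (FGSub.specDiag A).map k.hom)
    (fun {a b} φ => by
      show (FGSub.specDiag A).map φ.left ≫ (FGSub.specDiag A).map b.hom =
        (FGSub.specDiag A).map a.hom
      rw [← (FGSub.specDiag A).map_comp, Over.w])
    ((FGSub.specCone A).π.app j) (fun k => (FGSub.specCone A).w k.hom) u₀ q f hpb F₀ hF₀fp H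
  have hpbk := IsPullback.of_hasPullback u₀ ((FGSub.specDiag A).map k₂.hom)
  have hflat := hk₂ k₂ (𝟙 k₂) _ _ _ hpbk
  have hw : q ≫ u₀ = (f ≫ (FGSub.specCone A).π.app k₂.left) ≫ (FGSub.specDiag A).map k₂.hom := by
    rw [hpb.w, Category.assoc, (FGSub.specCone A).w]
  have hq' : IsPullback (pullback.lift q (f ≫ (FGSub.specCone A).π.app k₂.left) hw) f
      (pullback.snd u₀ ((FGSub.specDiag A).map k₂.hom)) ((FGSub.specCone A).π.app k₂.left) := by
    refine IsPullback.of_right (h₁₂ := pullback.fst u₀ ((FGSub.specDiag A).map k₂.hom))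
      (h₂₂ := (FGSub.specDiag A).map k₂.hom) (v₁₃ := u₀) ?_ (pullback.lift_snd _ _ _) hpbk
    rw [pullback.lift_fst, (FGSub.specCone A).w]
    exact hpb
  exact ⟨k₂.left, pullback u₀ ((FGSub.specDiag A).map k₂.hom), pullback.snd _ _,
    (Scheme.Modules.pullback (pullback.fst u₀ ((FGSub.specDiag A).map k₂.hom))).obj F₀,
    pullback.lift q (f ≫ (FGSub.specCone A).π.app k₂.left) hw, inferInstance, inferInstance,
    ConsMod.isCoh_of_isFP _ (Groth.Agent.Lead.LimZ.isFP_pullback _ F₀ hF₀fp), hq',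
    ⟨(ConsMod.pullbackFacIso (pullback.lift_fst _ _ _) F₀).symm ≪≫ e⟩, hflat⟩

/-- EGA IV 11.2.7 in the form with a finitely generated subring. -/
theorem noetherian_descent_flat {A : Type u} [CommRing A] {X : Scheme.{u}}
    (f : X ⟶ Spec (CommRingCat.of A)) [LocallyOfFinitePresentation f] [QuasiCompact f]
    [QuasiSeparated f] (F : X.Modules) [Coh.IsQCoh F] (hF : CohB1.IsFP F) (x : X) :
    (FlatMod.IsFlatOverAt f F x →
      ∃ (A₀ : Subalgebra ℤ A) (_ : A₀.FG) (X₀ : Scheme.{u}) (f₀ : X₀ ⟶ Spec (CommRingCat.of ↥A₀))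
        (_ : LocallyOfFiniteType f₀) (_ : QuasiCompact f₀) (F₀ : X₀.Modules) (_ : Coh.IsCoh F₀) (q : X ⟶ X₀)
        (_ : IsPullback q f f₀ (Spec.map (CommRingCat.ofHom A₀.val.toRingHom)))
        (_ : (Scheme.Modules.pullback q).obj F₀ ≅ F),
        FlatMod.IsFlatOverAt f₀ F₀ (q x)) ∧
    (FlatMod.IsFlatOver f F →
      ∃ (A₀ : Subalgebra ℤ A) (_ : A₀.FG) (X₀ : Scheme.{u}) (f₀ : X₀ ⟶ Spec (CommRingCat.of ↥A₀))
        (_ : LocallyOfFiniteType f₀) (_ : QuasiCompact f₀) (F₀ : X₀.Modules) (_ : Coh.IsCoh F₀) (q : X ⟶ X₀)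
        (_ : IsPullback q f f₀ (Spec.map (CommRingCat.ofHom A₀.val.toRingHom)))
        (_ : (Scheme.Modules.pullback q).obj F₀ ≅ F),
        FlatMod.IsFlatOver f₀ F₀) := by
  haveI : F.IsQuasicoherent := ‹Coh.IsQCoh F›
  constructor
  · intro hfl
    obtain ⟨j, X₀, f₀, F₀, q, h1, h2, h3, h4, ⟨e⟩, h5⟩ := exists_model_flatAt A f F hF x hfl
    exact ⟨j.unop.1, j.unop.2, X₀, f₀, h1, h2, F₀, h3, q, h4, e, h5⟩
  · intro hfl
    obtain ⟨j, X₀, f₀, F₀, q, h1, h2, h3, h4, ⟨e⟩, h5⟩ := exists_model_flat A f F hF hfl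
    exact ⟨j.unop.1, j.unop.2, X₀, f₀, h1, h2, F₀, h3, q, h4, e, h5⟩

end Groth.Agent.Helper7.FlatNoeth
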